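import Cfsg.Agent.Omega.KL.TwoV.Ex
import Cfsg.Agent.Omega.KL.StarR.GrpR
import Cfsg.Agent.Omega.KL.StarR.Main

/-!
# KL* for two vectors (helper789 #25784 (2), (3)): from `TwoV.Out` to helper345's `StarR.InpR`

* `FrJ T J V Z` : helper789's `Fr` with the group `J` (`T₀` of #25784), the dichotomy for the minimal parabolics and LEMMA E;
* **`FrJ.ginR`** : `Out T V Z i X B` gives `StarR.GInR` for `C_i` on `X`; **`FrJ.out_false`**;
* **`FrJ.ex_false`**, `FrJ.exists_mx` : some maximal `A` of `O₂(C_G(Z 0) ∩ C_G(Z 1))` moves `V i`, both `i`.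
-/

set_option autoImplicit false
set_option linter.unusedSectionVars false

namespace Cfsg.Agent.Omega.KL.TwoV

open Subgroup Cfsg Cfsg.Agent.Omega.MinPar
open Cfsg.Agent.ZN (o2 zc)
open Cfsg.Agent.Omega.OM.KTwo (ne_add_one eq_add_one add_one_add_one le_normalizer_V le_V exists_mul_of_mem_sup)
open Cfsg.Agent.MinSimple.MinParabolic (IsMinPar)
open Cfsg.Agent.Omega.NoFF.Basic (conj_conj mem_conj conj_le_iff comm_symm comm_mono Z_le_V V_le)
open Cfsg.Agent.ZN.ChoiceSit (Syl exists_syl syl_conj o2_le_syl syl_not_dvd)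
open Cfsg.Agent.MinSimple.VModule (mem_zc zc_le normalizer_le_normalizer_zc le_o2
  o2_isPGroup o2_le zc_le_centralizer le_centralizer_zc le_normalizer_o2 oddGen oddGen_def)
open Cfsg.Agent.Omega.TC.LemZ (card_eq le_norm_of norm_cent norm_inf)
open Cfsg.Agent.Omega.KL.TwoS (Mx relIndex_anti relIndex_mono)
open Cfsg.Agent.Omega.KL.TwoZ (CC QQ NH NN WW UU HH norm_o2_of)
open Cfsg.Agent.Omega.KL.StarR (GInR InpR)
open Cfsg.Agent.Omega.NO3b.EndX (RedP)
open scoped Pointwise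

universe u

variable {G : Type u} [Group G]

theorem eq_or_add (i k : Fin 2) : k = i ∨ k = i + 1 := by
  revert i k
  decide

/-- **the frame with the data of #25784 (3)**: `J = T₀` -/
structure FrJ [Finite G] (T J : Subgroup G) (V Z : Fin 2 → Subgroup G) : Prop extends Fr T V Z where
  JT : J ≤ T
  nJ : ∀ i, centralizer (Z i : Set G) ⊓ normalizer (T : Set G) ≤ normalizer (J : Set G)
  /-- a minimal parabolic of `C_G(Z i)` not in `C_G(Ω₁Z(T))` normalises the `V k`, and `J ≤ O₂(R)` or its elements of odd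
  order centralise one of the `V k` -/
  dich : ∀ (i : Fin 2) (R : Subgroup G), IsMinPar T R → R ≤ centralizer (Z i : Set G) → ¬ R ≤ centralizer (zc T : Set G) →
    (∀ k, R ≤ normalizer (V k : Set G)) ∧ ((J ≤ o2 R ∧ R ≤ normalizer (J : Set G)) ∨
      ∃ k, ∀ g ∈ R, Odd (orderOf g) → g ∈ centralizer (V k : Set G))
  bad : ∀ (i : Fin 2) (d : G), d ∈ centralizer (Z i : Set G) → d ∈ normalizer (V 0 : Set G) → d ∈ normalizer (V 1 : Set G) →
    d ∈ normalizer (J : Set G) → Odd (orderOf d) →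
    (∀ j ∈ J, ∀ w ∈ V i, (j * d * j⁻¹ * d⁻¹) * (d * w * d⁻¹ * w⁻¹) = (d * w * d⁻¹ * w⁻¹) * (j * d * j⁻¹ * d⁻¹)) →
    d ∈ centralizer (V i : Set G)

namespace FrJ

variable [Finite G] {T J : Subgroup G} {V Z : Fin 2 → Subgroup G} (D : FrJ T J V Z)

include D

theorem ginR (hML : ML.Final.MLK.{u, u}) {i : Fin 2} {X B : Subgroup G} (hK : IsKGroup (CC Z i))
    (O : Out T V Z i X B) :
    GInR (CC Z i) T B J (CC Z i ⊓ normalizer (V 0 : Set G) ⊓ normalizer (V 1 : Set G) ⊓ normalizer (J : Set G)) X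
      (V (i + 1) ⊓ zc T) (Z (i + 1)) (V i) := by
  have hTC := D.T_le_C
  have hBT : B ≤ T := O.BO.trans D.O_le_T
  have hBC : B ≤ CC Z i := hBT.trans (hTC i)
  have hZN : Z (i + 1) ≤ NN Z i := le_V _ _
  have hV01 : ∀ (g : G), g ∈ normalizer (V 0 : Set G) → g ∈ normalizer (V 1 : Set G) → ∀ k, g ∈ normalizer (V k : Set G) := by
    intro g h0 h1 k
    rcases Fin.exists_fin_two.1 ⟨k, rfl⟩ with h | h
    · rw [h]; exact h0
    · rw [h]; exact h1
  have hQV : ∀ k, CC Z i ⊓ normalizer (V 0 : Set G) ⊓ normalizer (V 1 : Set G) ⊓ normalizer (J : Set G) ≤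
      normalizer (V k : Set G) := fun k g hg => hV01 g hg.1.1.2 hg.1.2 k
  have hTz : T ≤ centralizer (zc T : Set G) := le_centralizer_zc T
  have hTZ : T ≤ centralizer ((V (i + 1) ⊓ zc T : Subgroup G) : Set G) := hTz.trans (centralizer_le inf_le_right)
  have hcVC : centralizer (V i : Set G) ≤ CC Z i := D.cent_V_le i
  have hBV : B ≤ o2 (centralizer (V i : Set G)) := (le_inf O.BH O.BV).trans (FlagNO.o2_inf_sub le_sup_left)
  refine ⟨O.CX, O.sqX, hTC i, D.T_isPGroup, syl_not_dvd (D.syl i), inf_le_left.trans ((D.V_le_N i).trans O.NX),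
    hZN.trans O.NX, O.VX, hTZ, hTC (i + 1), ?_, ?_, ?_, ?_, D.JT, hBT, ?_, ?_, Or.inl ?_, O.sqB, ?_, ?_, ?_, ?_, ?_, ?_, hK⟩
  · -- NZ
    exact norm_inf ((D.nT i).trans inf_le_right) (inf_le_right.trans (normalizer_le_normalizer_zc T))
  · -- NQ
    rintro n ⟨hn, hnT⟩
    have h1 := D.nT i ⟨hn, hnT⟩
    have h2 : ∀ k, n ∈ normalizer (V k : Set G) := by
      intro k
      rcases TwoV.eq_or_add i k with h | h
      · rw [h]; exact h1.1
      · rw [h]; exact h1.2
    exact ⟨⟨⟨hn, h2 0⟩, h2 1⟩, D.nJ i ⟨hn, hnT⟩⟩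
  · exact inf_le_right.trans (hQV i)
  · exact inf_le_right.trans inf_le_right
  · -- par
    intro P hP hPC
    by_cases hc : P ≤ centralizer (zc T : Set G)
    · left
      exact hc.trans (centralizer_le inf_le_right)
    · obtain ⟨hV, ⟨hJ, hJn⟩ | ⟨k, hk⟩⟩ := D.dich i P hP hPC hc
      · right; right
        refine ⟨?_, hJ, le_inf (le_inf (le_inf hPC (hV 0)) (hV 1)) hJn⟩
        refine (le_inf hBV (hBT.trans hP.le)).trans (le_o2 inf_le_right ((o2_isPGroup _).to_le inf_le_left) ?_)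
        exact norm_inf (fun g hg => norm_o2_of (norm_cent (hV i) hg)) le_normalizer
      · rcases TwoV.eq_or_add i k with h | h
        · right; left
          rw [h] at hk
          exact hk
        · left
          rw [h] at hk
          have h2 : oddGen P ≤ centralizer ((V (i + 1) ⊓ zc T : Subgroup G) : Set G) := by
            rw [oddGen_def, closure_le]
            rintro g ⟨hg, hgo⟩
            exact centralizer_le inf_le_left (hk g hg hgo)
          have hsP : Syl T P := ⟨hP.le, D.T_isPGroup, fun R hR hR2 hTR => (D.syl i).2.2 R (hR.trans hPC) hR2 hTR⟩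
          rw [← Star.Core.oddGen_sup hP.le (syl_not_dvd hsP)]
          exact sup_le h2 hTZ
  · -- sep
    intro g _ hgQ _ z hz y hy h
    have hgz : g * z * g⁻¹ ∈ V (i + 1) := (mem_normalizer_iff.1 (hQV (i + 1) hgQ) z).1 hz.1
    have hgy : g * y * g⁻¹ ∈ V i := (mem_normalizer_iff.1 (hQV i hgQ) y).1 hy
    have h1 : (g * z * g⁻¹) * (g * y * g⁻¹) = z * y := by
      calc (g * z * g⁻¹) * (g * y * g⁻¹) = g * (z * y) * g⁻¹ := by group
        _ = z * y := by rw [h, mul_inv_cancel_right]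
    have h2 : z⁻¹ * (g * z * g⁻¹) = y * (g * y * g⁻¹)⁻¹ := by
      calc z⁻¹ * (g * z * g⁻¹) = z⁻¹ * ((g * z * g⁻¹) * (g * y * g⁻¹)) * (g * y * g⁻¹)⁻¹ := by group
        _ = y * (g * y * g⁻¹)⁻¹ := by rw [h1]; group
    have h3 : z⁻¹ * (g * z * g⁻¹) = 1 := by
      refine D.disV i _ ?_ (mul_mem (inv_mem hz.1) hgz)
      rw [h2]
      exact mul_mem hy (inv_mem hgy)
    calc g * z = z * (z⁻¹ * (g * z * g⁻¹)) * g := by group
      _ = z * g := by rw [h3, mul_one]
  · -- hb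
    intro d hd hdQ hdo hc
    exact D.bad i d hd (hQV 0 hdQ) (hQV 1 hdQ) hdQ.2 hdo hc
  · -- AZ
    refine (le_inf O.BO (le_inf hBC (hBT.trans hTZ))).trans (FlagNO.o2_inf_sub ?_)
    rintro c ⟨hc, hcz⟩
    refine Fr.mem_D hc (centralizer_le (le_inf (D.ZV _) (D.Zz _)) hcz)
  · -- AY
    have e : CC Z i ⊓ centralizer (V i : Set G) ⊔ T = HH T V i := by
      rw [inf_eq_right.2 hcVC]
    rw [e]
    exact O.BH
  · exact O.ker
  · intro h
    exact O.mv (h.trans (centralizer_le O.NX))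
  · intro A hAB
    have h1 := D.no_N hML hK (hAB.trans O.BO) (fun b hb => O.sqB b (hAB hb))
    have h2 : (centralizer (X : Set G)).relIndex A ≤ (centralizer (NN Z i : Set G)).relIndex A := by
      rw [← inf_relIndex_left A (centralizer (NN Z i : Set G)), ← inf_relIndex_left A (centralizer (X : Set G))]
      exact relIndex_anti (le_inf inf_le_left ((inf_le_inf_right _ hAB).trans O.ker))
    exact h2.trans (h1.trans (relIndex_mono O.NX))
  · exact O.ex.trans (relIndex_anti (centralizer_le O.NX))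

/-- **EX + KL* for vectors** -/
theorem out_false (hML : ML.Final.MLK.{u, u}) (hR : RedP.{u, u}) (hE : ML.Ex.Two.Ext.{u, u}) {i : Fin 2}
    {X B : Subgroup G} (hK : IsKGroup (CC Z i)) (O : Out T V Z i X B) : False := by
  obtain ⟨H, N, _, _, _, _, _, T', A', J', Q', Z₁, Y', h⟩ := (D.ginR hML hK O).inpR
  exact h.false_of hML hR hE

/-- **a maximal elementary abelian subgroup of `O₂(C_G(Z 0) ∩ C_G(Z 1))` lies in `Q_i` and moves `V i`** -/
theorem ex_false (hML : ML.Final.MLK.{u, u}) (hR : RedP.{u, u}) (hE : ML.Ex.Two.Ext.{u, u})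
    (hK : ∀ i, IsKGroup (CC Z i)) :
    ∀ i, ¬ Fail V Z i ∧ ¬ V i ≤ NN Z i ∧
      ∃ A : Subgroup G, Mx (o2 (DD Z)) A ∧ A ≤ QQ Z i ∧ ¬ A ≤ centralizer (V i : Set G) := by
  rcases D.toFr.ex hML hK with ⟨i, X, B, O⟩ | h
  · exact (D.out_false hML hR hE (hK i) O).elim
  · exact h

/-- the same with `𝒜(O)`, `O = O₂(C_G(Ω₁Z(T)))` -/
theorem exists_mx (hML : ML.Final.MLK.{u, u}) (hR : RedP.{u, u}) (hE : ML.Ex.Two.Ext.{u, u})
    (hK : ∀ i, IsKGroup (CC Z i)) (i : Fin 2) :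
    ∃ A : Subgroup G, Mx (o2 (centralizer (zc T : Set G))) A ∧ Mx (o2 (DD Z)) A ∧ A ≤ QQ Z i ∧
      ¬ A ≤ centralizer (V i : Set G) := by
  obtain ⟨-, -, A, h1, h2, h3⟩ := D.ex_false hML hR hE hK i
  exact ⟨A, D.toFr.mx_sub hML (hK 0) h1, h1, h2, h3⟩

end FrJ

end Cfsg.Agent.Omega.KL.TwoV
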